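import Groth.Prelude.Def_Smoothing
import Mathlib.RingTheory.Smooth.IntegralClosure
import Mathlib.LinearAlgebra.TensorProduct.RightExactness
import Mathlib.LinearAlgebra.TensorProduct.Finiteness
import Mathlib.RingTheory.Flat.EquationalCriterion
import Mathlib.Algebra.MvPolynomial.Variables

/-! Ind-smooth base change commutes with integral closure. -/

set_option autoImplicit false
set_option linter.style.haveILetI false
set_option maxHeartbeats 1000000
set_option backward.isDefEq.respectTransparency false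
universe u

open TensorProduct Polynomial

namespace IndSmLib

noncomputable section

variable {R S : Type u} [CommRing R] [CommRing S] [Algebra R S]

/-- An element of `T ⊗ B` killed in `S ⊗ B` is killed at a later smooth stage. -/
theorem exists_smooth_killing (hS : Smoothing.IndSmooth R S) {B : Type u} [CommRing B] [Algebra R B]
    {T : Type u} [CommRing T] [Algebra R T] [Algebra.FinitePresentation R T] (h : T →ₐ[R] S)
    (w : T ⊗[R] B) (hw : Algebra.TensorProduct.map h (AlgHom.id R B) w = 0) :
    ∃ (T' : Type u) (_ : CommRing T') (_ : Algebra R T') (_ : Algebra.Smooth R T') (g : T →ₐ[R] T')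
      (h' : T' →ₐ[R] S), h'.comp g = h ∧ Algebra.TensorProduct.map g (AlgHom.id R B) w = 0 := by
  classical
  letI := h.toRingHom.toAlgebra
  haveI : IsScalarTower R T S := .of_algebraMap_eq fun r => (h.commutes r).symm
  let Q := MvPolynomial S T
  let ev : Q →ₐ[R] S := (MvPolynomial.aeval (R := T) (id : S → S)).restrictScalars R
  have hev : Function.Surjective ev := fun s => ⟨MvPolynomial.X s, MvPolynomial.aeval_X (R := T) _ s⟩
  let C : T →ₐ[R] Q := IsScalarTower.toAlgHom R T Q
  let w' := Algebra.TensorProduct.map C (AlgHom.id R B) w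
  have hw' : Algebra.TensorProduct.map ev (AlgHom.id R B) w' = 0 := by
    rw [← hw]
    show ((Algebra.TensorProduct.map ev (AlgHom.id R B)).comp (Algebra.TensorProduct.map C (AlgHom.id R B))) w = _
    rw [← Algebra.TensorProduct.map_comp, AlgHom.id_comp]
    congr 2
    ext t
    exact MvPolynomial.aeval_C _ _
  have hex := rTensor_exact B (f := (LinearMap.ker ev.toLinearMap).subtype) (g := ev.toLinearMap)
    (LinearMap.exact_subtype_ker_map _) hev
  obtain ⟨v, hv⟩ := (hex w').1 hw'
  obtain ⟨G, rfl⟩ := TensorProduct.exists_finset v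
  let E : Finset S := G.biUnion fun p => (p.1 : Q).vars
  let QE := MvPolynomial E T
  let r : Q →ₐ[T] QE := MvPolynomial.aeval fun s => if hs : s ∈ E then MvPolynomial.X ⟨s, hs⟩ else 0
  let evE : QE →ₐ[T] S := MvPolynomial.aeval fun s => (s : S)
  let J : Ideal QE := Ideal.span ((G.image fun p => r (p.1 : Q)) : Finset QE)
  have hJ : J ≤ RingHom.ker evE.toRingHom := by
    refine Ideal.span_le.2 fun q hq => ?_
    obtain ⟨p, hp, rfl⟩ := Finset.mem_image.1 (Finset.mem_coe.1 hq)
    show evE (r (p.1 : Q)) = 0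
    have h1 : evE.comp r = MvPolynomial.aeval (R := T) (fun s : S => if s ∈ E then s else 0) :=
      MvPolynomial.algHom_ext fun s => by
        rw [AlgHom.comp_apply, MvPolynomial.aeval_X, MvPolynomial.aeval_X]
        by_cases hs : s ∈ E
        · rw [dif_pos hs, if_pos hs]; exact MvPolynomial.aeval_X _ _
        · rw [dif_neg hs, if_neg hs, map_zero]
    refine (AlgHom.congr_fun h1 _).trans ?_
    refine Eq.trans ?_ (LinearMap.mem_ker.1 p.1.2)
    exact MvPolynomial.eval₂Hom_congr' rfl
      (fun i hi _ => if_pos (Finset.mem_biUnion.2 ⟨p, hp, hi⟩)) rfl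
  haveI : Algebra.FinitePresentation R QE := Algebra.FinitePresentation.trans R T QE
  have hfp : Algebra.FinitePresentation R (QE ⧸ J) := Algebra.FinitePresentation.quotient ⟨_, rfl⟩
  let π : QE →ₐ[R] QE ⧸ J := Ideal.Quotient.mkₐ R J
  let hA : (QE ⧸ J) →ₐ[R] S := Ideal.Quotient.liftₐ J (evE.restrictScalars R) fun q hq => hJ hq
  obtain ⟨T', _, _, hT', g', h', hh'⟩ := hS (QE ⧸ J) hfp hA
  let ι : T →ₐ[R] QE ⧸ J := π.comp (IsScalarTower.toAlgHom R T QE)
  refine ⟨T', inferInstance, inferInstance, hT', g'.comp ι, h', ?_, ?_⟩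
  · rw [← AlgHom.comp_assoc, hh']
    ext t
    exact evE.commutes t
  · let ρ : Q →ₐ[R] T' := g'.comp (π.comp (r.restrictScalars R))
    have hρ : ρ.comp C = g'.comp ι := by
      ext t
      show g' (π (r (algebraMap T Q t))) = g' (π (algebraMap T QE t))
      rw [r.commutes]
    rw [← hρ, show Algebra.TensorProduct.map (ρ.comp C) (AlgHom.id R B) =
        (Algebra.TensorProduct.map ρ (AlgHom.id R B)).comp (Algebra.TensorProduct.map C (AlgHom.id R B)) by
      rw [← Algebra.TensorProduct.map_comp, AlgHom.id_comp]]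
    show Algebra.TensorProduct.map ρ (AlgHom.id R B) w' = 0
    rw [← hv, map_sum, map_sum]
    refine Finset.sum_eq_zero fun p hp => ?_
    show Algebra.TensorProduct.map ρ (AlgHom.id R B) ((p.1 : Q) ⊗ₜ[R] p.2) = 0
    rw [Algebra.TensorProduct.map_tmul,
      show ρ (p.1 : Q) = g' (π (r (p.1 : Q))) from rfl,
      show π (r (p.1 : Q)) = 0 from Ideal.Quotient.eq_zero_iff_mem.2
        (Ideal.subset_span (Finset.mem_image_of_mem _ hp)), map_zero, zero_tmul]

theorem flat_of_indSmooth (hS : Smoothing.IndSmooth R S) : Module.Flat R S := by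
  refine Module.Flat.of_forall_isTrivialRelation fun {l} {f} {x} hfx => ?_
  let P := MvPolynomial (Fin l) R
  let q : P := ∑ i, f i • MvPolynomial.X i
  let ev : P →ₐ[R] S := MvPolynomial.aeval x
  have hq : ev q = 0 := by
    simp only [q, map_sum, map_smul]
    refine Eq.trans (Finset.sum_congr rfl fun i _ => ?_) hfx
    congr 1
    exact MvPolynomial.aeval_X _ _
  have hfp : Algebra.FinitePresentation R (P ⧸ Ideal.span {q}) :=
    Algebra.FinitePresentation.quotient (Submodule.fg_span_singleton q)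
  let hA : (P ⧸ Ideal.span {q}) →ₐ[R] S := Ideal.Quotient.liftₐ _ ev fun p hp => by
    obtain ⟨c, rfl⟩ := Ideal.mem_span_singleton'.1 hp
    rw [map_mul, hq, mul_zero]
  obtain ⟨T, _, _, hT, g, h, hgh⟩ := hS _ hfp hA
  haveI := hT
  let y : Fin l → T := fun i => g (Ideal.Quotient.mk _ (MvPolynomial.X i))
  have hy : ∑ i, f i • y i = 0 := by
    have h0 : g (Ideal.Quotient.mkₐ R (Ideal.span {q}) q) = 0 := by
      rw [show Ideal.Quotient.mkₐ R (Ideal.span {q}) q = 0 from
        Ideal.Quotient.eq_zero_iff_mem.2 (Ideal.mem_span_singleton_self q), map_zero]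
    rw [← h0]
    simp only [q, map_sum, map_smul]
    rfl
  obtain ⟨k, a, z, ha, hz⟩ := Module.Flat.isTrivialRelation_of_sum_smul_eq_zero hy
  refine ⟨k, a, fun j => h (z j), fun i => ?_, hz⟩
  rw [show x i = h (y i) from ((AlgHom.congr_fun hgh _).trans
    (MvPolynomial.aeval_X x i)).symm, ha i, map_sum]
  simp only [map_smul]

theorem toIntegralClosure_bijective (hS : Smoothing.IndSmooth R S) (B : Type u) [CommRing B] [Algebra R B] :
    Function.Bijective (TensorProduct.toIntegralClosure R S B) := by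
  classical
  haveI := flat_of_indSmooth hS
  refine ⟨TensorProduct.toIntegralClosure_injective_of_flat, fun y => ?_⟩
  rcases subsingleton_or_nontrivial S with hsub | hnt
  · haveI : Subsingleton (S ⊗[R] B) := Module.subsingleton S _
    exact ⟨0, Subtype.ext (Subsingleton.elim _ _)⟩
  obtain ⟨p, hp, hpy⟩ := y.2
  obtain ⟨G, hG⟩ := TensorProduct.exists_finset (y : S ⊗[R] B)
  let E : Finset S := G.image Prod.fst ∪ p.coeffs
  have hfp : Algebra.FinitePresentation R (MvPolynomial E R) := inferInstance
  obtain ⟨T, _, _, hT, g, h, hgh⟩ := hS _ hfp (MvPolynomial.aeval (R := R) (S₁ := S) (fun s : E => (s : S)))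
  haveI := hT
  have hrange : ∀ s ∈ E, ∃ t : T, h t = s := fun s hs =>
    ⟨g (MvPolynomial.X ⟨s, hs⟩), (AlgHom.congr_fun hgh _).trans (MvPolynomial.aeval_X _ _)⟩
  obtain ⟨p₁, hp₁, -, hp₁m⟩ := Polynomial.lifts_and_degree_eq_and_monic (f := (h : T →+* S)) (p := p) (by
    refine (Polynomial.lifts_iff_coeff_lifts p).2 fun n => ?_
    by_cases hn : p.coeff n = 0
    · exact ⟨0, by rw [map_zero, hn]⟩
    · obtain ⟨t, ht⟩ := hrange _ (Finset.mem_union_right _ (Polynomial.coeff_mem_coeffs hn))
      exact ⟨t, ht⟩) hp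
  choose! t ht using hrange
  let y₁ : T ⊗[R] B := ∑ q ∈ G, t q.1 ⊗ₜ[R] q.2
  let hB := Algebra.TensorProduct.map h (AlgHom.id R B)
  have hy₁ : hB y₁ = (y : S ⊗[R] B) := by
    rw [hG]
    simp only [hB, y₁, map_sum, Algebra.TensorProduct.map_tmul, AlgHom.id_apply]
    exact Finset.sum_congr rfl fun q hq => by
      rw [ht _ (Finset.mem_union_left _ (Finset.mem_image_of_mem _ hq))]
  let w : T ⊗[R] B := p₁.eval₂ (algebraMap T (T ⊗[R] B)) y₁
  have hw : hB w = 0 := by
    show hB.toRingHom w = 0
    rw [Polynomial.hom_eval₂]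
    rw [show hB.toRingHom.comp (algebraMap T (T ⊗[R] B)) = (algebraMap S (S ⊗[R] B)).comp (h : T →+* S) from
      RingHom.ext fun a => by simp [hB], ← Polynomial.eval₂_map, hp₁]
    show p.eval₂ (algebraMap S (S ⊗[R] B)) (hB y₁) = 0
    rw [hy₁]
    exact hpy
  obtain ⟨T', _, _, hT', g', h', hh', hw'⟩ := exists_smooth_killing hS h w hw
  haveI := hT'
  let gB := Algebra.TensorProduct.map g' (AlgHom.id R B)
  have hint : IsIntegral T' (gB y₁) := by
    refine ⟨p₁.map (g' : T →+* T'), hp₁m.map _, ?_⟩
    rw [Polynomial.eval₂_map, show (algebraMap T' (T' ⊗[R] B)).comp (g' : T →+* T') =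
      gB.toRingHom.comp (algebraMap T (T ⊗[R] B)) from RingHom.ext fun a => by simp [gB]]
    show p₁.eval₂ _ (gB.toRingHom y₁) = 0
    rw [← Polynomial.hom_eval₂]
    exact hw'
  obtain ⟨z, hz⟩ := (TensorProduct.toIntegralClosure_bijective_of_smooth (R := R) (S := T') (B := B)).2 ⟨gB y₁, hint⟩
  refine ⟨Algebra.TensorProduct.map h' (AlgHom.id R _) z, Subtype.ext ?_⟩
  have hz' : Algebra.TensorProduct.map (AlgHom.id R T') (integralClosure R B).val z = gB y₁ :=
    congrArg Subtype.val hz
  show Algebra.TensorProduct.map (AlgHom.id R S) (integralClosure R B).val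
    (Algebra.TensorProduct.map h' (AlgHom.id R _) z) = _
  have hcomm : (Algebra.TensorProduct.map (AlgHom.id R S) (integralClosure R B).val).comp
      (Algebra.TensorProduct.map h' (AlgHom.id R _)) =
      (Algebra.TensorProduct.map h' (AlgHom.id R B)).comp
        (Algebra.TensorProduct.map (AlgHom.id R T') (integralClosure R B).val) := by
    rw [← Algebra.TensorProduct.map_comp, ← Algebra.TensorProduct.map_comp]
    rfl
  refine (AlgHom.congr_fun hcomm z).trans ?_
  show Algebra.TensorProduct.map h' (AlgHom.id R B) (Algebra.TensorProduct.map (AlgHom.id R T') (integralClosure R B).val z) = _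
  rw [hz', ← hy₁]
  show ((Algebra.TensorProduct.map h' (AlgHom.id R B)).comp gB) y₁ = hB y₁
  rw [← Algebra.TensorProduct.map_comp, hh', AlgHom.id_comp]

end

end IndSmLib
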